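import Groth.Agent.Lib.Helper16.ResK0.SES

/-!
# The tower of classes of objects of finite resolution dimension (helper16)
-/

set_option autoImplicit false
universe v u

namespace Groth.Agent.Lib.Helper16

namespace ResK0

open CategoryTheory CategoryTheory.Limits

variable {C : Type u} [Category.{v} C] [Abelian C]

/-- `U P₀ P₁ n`: objects of `P₁` all of whose length `n` partial resolutions by objects of `P₀`
have kernel in `P₀`. -/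
def U (P₀ P₁ : ObjectProperty C) : ℕ → ObjectProperty C
  | 0 => P₀
  | n + 1 => fun A => P₁ A ∧ ∀ K L : C, SES K L A → P₀ L → U P₀ P₁ n K

/-- the hypotheses on the pair `P₀ ≤ P₁` (in `SES` form) -/
structure Hyp (P₀ P₁ : ObjectProperty C) : Prop where
  le : ∀ X, P₀ X → P₁ X
  ext₀ : ∀ {A' A A'' : C}, SES A' A A'' → P₀ A' → P₀ A'' → P₀ A
  ext₁ : ∀ {A' A A'' : C}, SES A' A A'' → P₁ A' → P₁ A'' → P₁ A
  ker₀ : ∀ {K L A : C}, SES K L A → P₀ L → P₀ A → P₀ K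
  ker₁ : ∀ {K L A : C}, SES K L A → P₁ L → P₁ A → P₁ K
  cover : ∀ A : C, P₁ A → ∃ K L : C, SES K L A ∧ P₀ L

variable {P₀ P₁ : ObjectProperty C}

lemma U_sub (H : Hyp P₀ P₁) : ∀ (n : ℕ) {A : C}, U P₀ P₁ n A → P₁ A
  | 0, _, h => H.le _ h
  | _ + 1, _, h => h.1

lemma U_succ (H : Hyp P₀ P₁) : ∀ (n : ℕ) {A : C}, U P₀ P₁ n A → U P₀ P₁ (n + 1) A
  | 0, A, h => ⟨H.le _ h, fun K L hs hL => H.ker₀ hs hL h⟩
  | n + 1, A, h => ⟨h.1, fun K L hs hL => U_succ H n (h.2 K L hs hL)⟩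

lemma U_mono (H : Hyp P₀ P₁) {n m : ℕ} (hnm : n ≤ m) {A : C} (h : U P₀ P₁ n A) :
    U P₀ P₁ m A := by
  induction m, hnm using Nat.le_induction with
  | base => exact h
  | succ m _ ih => exact U_succ H m ih

lemma U_zero_of (H : Hyp P₀ P₁) {A : C} (h : P₀ A) (n : ℕ) : U P₀ P₁ n A :=
  U_mono H (Nat.zero_le n) h

/-- extension-closure and closure under kernels of epimorphisms at level `n` -/
def Good (P₀ P₁ : ObjectProperty C) (n : ℕ) : Prop :=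
  (∀ {A' A A'' : C}, SES A' A A'' → U P₀ P₁ n A' → U P₀ P₁ n A'' → U P₀ P₁ n A) ∧
  (∀ {K N B : C}, SES K N B → U P₀ P₁ n N → U P₀ P₁ n B → U P₀ P₁ n K)

/-- existential criterion for membership at level `n + 1` -/
lemma U_succ_of_exists (H : Hyp P₀ P₁) {n : ℕ} (hn : Good P₀ P₁ n) {A K₁ L₁ : C} (hA : P₁ A)
    (hs : SES K₁ L₁ A) (hL₁ : P₀ L₁) (hK₁ : U P₀ P₁ n K₁) : U P₀ P₁ (n + 1) A := by
  refine ⟨hA, fun K₂ L₂ hs₂ hL₂ => ?_⟩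
  obtain ⟨M, hM₁, hM₂⟩ := ses_pullback_pair hs hs₂
  have hM : U P₀ P₁ n M := hn.1 hM₁ hK₁ (U_zero_of H hL₂ n)
  exact hn.2 hM₂ hM (U_zero_of H hL₁ n)

/-- kernel of an epimorphism from level `n` onto level `n + 1` is of level `n` -/
lemma U_ker_succ (H : Hyp P₀ P₁) {n : ℕ} (hn : Good P₀ P₁ n) {K K'' A' : C}
    (hs : SES K K'' A') (hK'' : U P₀ P₁ n K'') (hA' : U P₀ P₁ (n + 1) A') : U P₀ P₁ n K := by
  obtain ⟨K', L', hs', hL'⟩ := H.cover A' hA'.1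
  have hK' : U P₀ P₁ n K' := hA'.2 K' L' hs' hL'
  obtain ⟨N, hN₁, hN₂⟩ := ses_pullback_pair hs' hs
  have hN : U P₀ P₁ n N := hn.1 hN₁ hK' hK''
  exact hn.2 hN₂ hN (U_zero_of H hL' n)

lemma good (H : Hyp P₀ P₁) : ∀ n : ℕ, Good P₀ P₁ n
  | 0 => ⟨fun hs h' h'' => H.ext₀ hs h' h'', fun hs hN hB => H.ker₀ hs hN hB⟩
  | n + 1 => by
    have hn := good H n
    constructor
    · intro A' A A'' hs hA' hA''
      have hA : P₁ A := H.ext₁ hs hA'.1 hA''.1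
      refine ⟨hA, fun K L hsL hL => ?_⟩
      obtain ⟨K'', hK''₁, hK''₂⟩ := ses_kernel_comp hsL hs
      have hK'' : U P₀ P₁ n K'' := hA''.2 K'' L hK''₁ hL
      exact U_ker_succ H hn hK''₂ hK'' hA'
    · intro K N B hs hN hB
      have hK : P₁ K := H.ker₁ hs hN.1 hB.1
      obtain ⟨J₁, L₁, hs₁, hL₁⟩ := H.cover N hN.1
      have hJ₁ : U P₀ P₁ n J₁ := hN.2 J₁ L₁ hs₁ hL₁
      obtain ⟨J₂, hJ₂₁, hJ₂₂⟩ := ses_kernel_comp hs₁ hs
      have hJ₂ : U P₀ P₁ n J₂ := hB.2 J₂ L₁ hJ₂₁ hL₁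
      -- `0 → J₁ → J₂ → K → 0`
      obtain ⟨J₃, L, hs₃, hL⟩ := H.cover J₂ (U_sub H n hJ₂)
      have hJ₃ : U P₀ P₁ n J₃ := (U_succ H n hJ₂).2 J₃ L hs₃ hL
      obtain ⟨T, hT₁, hT₂⟩ := ses_kernel_comp hs₃ hJ₂₂
      have hT : U P₀ P₁ n T := hn.1 hT₂ hJ₃ hJ₁
      exact U_succ_of_exists H hn hK hT₁ hL hT

end ResK0

end Groth.Agent.Lib.Helper16
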