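import Groth.Agent.Lib.Helper16.ResK0.SES
import Groth.Prelude.Def_SGA6

/-!
# One step of the resolution theorem for `K0sub`, and passage to a countable union (helper16)
-/

set_option autoImplicit false
universe v u

namespace Groth.Agent.Lib.Helper16

namespace ResK0

open CategoryTheory CategoryTheory.Limits

variable {C : Type u} [Category.{v} C] [Abelian C]

/-- the class of an object with an explicit membership proof -/
def clP (Q : ObjectProperty C) (X : C) (h : Q X) : KZero.K0sub Q :=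
  QuotientAddGroup.mk (FreeAbelianGroup.of ⟨X, h⟩)

lemma clP_ses {Q : ObjectProperty C} {K L A : C} (hs : SES K L A) (hK : Q K) (hL : Q L)
    (hA : Q A) : clP Q L hL = clP Q K hK + clP Q A hA := by
  obtain ⟨i, p, w, hS⟩ := hs
  have h : FreeAbelianGroup.of (⟨L, hL⟩ : Subtype Q) - FreeAbelianGroup.of ⟨K, hK⟩ -
      FreeAbelianGroup.of ⟨A, hA⟩ ∈ KZero.relSub Q :=
    AddSubgroup.subset_closure ⟨ShortComplex.mk i p w, hK, hL, hA, hS, rfl⟩
  have h2 := (QuotientAddGroup.eq_zero_iff _).mpr h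
  rw [QuotientAddGroup.mk_sub, QuotientAddGroup.mk_sub, sub_sub, sub_eq_zero] at h2
  exact h2

lemma mapSub_clP {Q Q' : ObjectProperty C} (le : ∀ X, Q X → Q' X) (X : C) (h : Q X) :
    SGA6.mapSub (𝟭 C) Q Q' le (clP Q X h) = clP Q' X (le X h) := by
  simp only [SGA6.mapSub, clP, QuotientAddGroup.map_mk, FreeAbelianGroup.map_of_apply]
  rfl

lemma K0sub_induction {Q : ObjectProperty C} {p : KZero.K0sub Q → Prop} (x : KZero.K0sub Q)
    (h0 : p 0) (hg : ∀ X h, p (clP Q X h)) (hneg : ∀ x, p x → p (-x))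
    (hadd : ∀ x y, p x → p y → p (x + y)) : p x := by
  induction x using QuotientAddGroup.induction_on with
  | H z =>
    induction z using FreeAbelianGroup.induction_on with
    | zero => exact h0
    | of x => exact hg x.1 x.2
    | neg x ih => exact hneg _ ih
    | add x y hx hy => exact hadd _ _ hx hy

lemma K0sub_hom_ext {Q : ObjectProperty C} {G : Type*} [AddCommGroup G]
    (f g : KZero.K0sub Q →+ G) (h : ∀ X hX, f (clP Q X hX) = g (clP Q X hX)) (x : KZero.K0sub Q) :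
    f x = g x := by
  induction x using K0sub_induction with
  | h0 => rw [map_zero, map_zero]
  | hg X hX => exact h X hX
  | hneg x ih => rw [map_neg, map_neg, ih]
  | hadd x y hx hy => rw [map_add, map_add, hx, hy]

/-- homomorphisms out of `K0sub Q` from additive functions on objects -/
noncomputable def K0lift {Q : ObjectProperty C} {G : Type*} [AddCommGroup G] (φ : ∀ X, Q X → G)
    (hφ : ∀ {K L A : C} (_ : SES K L A) (hK : Q K) (hL : Q L) (hA : Q A),
      φ L hL = φ K hK + φ A hA) : KZero.K0sub Q →+ G :=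
  QuotientAddGroup.lift (KZero.relSub Q)
    (FreeAbelianGroup.lift (fun X : Subtype Q => φ X.1 X.2)) (by
      rw [KZero.relSub, AddSubgroup.closure_le]
      rintro x ⟨S, h₁, h₂, h₃, hS, rfl⟩
      simp only [SetLike.mem_coe, AddMonoidHom.mem_ker, map_sub, FreeAbelianGroup.lift_apply_of]
      rw [hφ (SES.of_shortExact hS) h₁ h₂ h₃]
      abel)

lemma K0lift_clP {Q : ObjectProperty C} {G : Type*} [AddCommGroup G] (φ : ∀ X, Q X → G)
    (hφ : ∀ {K L A : C} (_ : SES K L A) (hK : Q K) (hL : Q L) (hA : Q A),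
      φ L hL = φ K hK + φ A hA) (X : C) (hX : Q X) : K0lift φ hφ (clP Q X hX) = φ X hX := by
  simp only [K0lift, clP, QuotientAddGroup.lift_mk, FreeAbelianGroup.lift_apply_of]

lemma mapSub_comp {Q Q' Q'' : ObjectProperty C} (le₁ : ∀ X, Q X → Q' X)
    (le₂ : ∀ X, Q' X → Q'' X) (x : KZero.K0sub Q) :
    SGA6.mapSub (𝟭 C) Q' Q'' le₂ (SGA6.mapSub (𝟭 C) Q Q' le₁ x) =
      SGA6.mapSub (𝟭 C) Q Q'' (fun X h => le₂ X (le₁ X h)) x :=
  K0sub_hom_ext ((SGA6.mapSub (𝟭 C) Q' Q'' le₂).comp (SGA6.mapSub (𝟭 C) Q Q' le₁))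
    (SGA6.mapSub (𝟭 C) Q Q'' (fun X h => le₂ X (le₁ X h)))
    (fun X hX => by
      rw [AddMonoidHom.comp_apply, mapSub_clP, mapSub_clP, mapSub_clP]) x

/-- the hypotheses for one step -/
structure Step (Q Q' : ObjectProperty C) : Prop where
  le : ∀ X, Q X → Q' X
  ext : ∀ {A' A A'' : C}, SES A' A A'' → Q A' → Q A'' → Q A
  cover : ∀ A : C, Q' A → ∃ K L : C, SES K L A ∧ Q L
  ker : ∀ {K L A : C}, SES K L A → Q L → Q' A → Q K

namespace Step

variable {Q Q' : ObjectProperty C} (T : Step Q Q')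

include T in
lemma indep {A K₁ L₁ K₂ L₂ : C} (hA : Q' A) (h₁ : SES K₁ L₁ A) (hL₁ : Q L₁)
    (h₂ : SES K₂ L₂ A) (hL₂ : Q L₂) :
    clP Q L₁ hL₁ - clP Q K₁ (T.ker h₁ hL₁ hA) = clP Q L₂ hL₂ - clP Q K₂ (T.ker h₂ hL₂ hA) := by
  obtain ⟨M, hM₁, hM₂⟩ := ses_pullback_pair h₁ h₂
  have hK₁ := T.ker h₁ hL₁ hA
  have hK₂ := T.ker h₂ hL₂ hA
  have hM : Q M := T.ext hM₁ hK₁ hL₂
  have e1 := clP_ses hM₁ hK₁ hM hL₂
  have e2 := clP_ses hM₂ hK₂ hM hL₁
  rw [sub_eq_sub_iff_add_eq_add, add_comm (clP Q L₁ hL₁), ← e2, e1, add_comm]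

/-- the inverse on generators -/
noncomputable def psiGen (A : C) (hA : Q' A) : KZero.K0sub Q :=
  clP Q (T.cover A hA).choose_spec.choose (T.cover A hA).choose_spec.choose_spec.2 -
    clP Q (T.cover A hA).choose
      (T.ker (T.cover A hA).choose_spec.choose_spec.1 (T.cover A hA).choose_spec.choose_spec.2 hA)

lemma psiGen_eq {A K L : C} (hA : Q' A) (h : SES K L A) (hL : Q L) :
    psiGen T A hA = clP Q L hL - clP Q K (T.ker h hL hA) :=
  T.indep hA (T.cover A hA).choose_spec.choose_spec.1 (T.cover A hA).choose_spec.choose_spec.2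
    h hL

lemma psiGen_ses {A' A A'' : C} (hs : SES A' A A'') (hA' : Q' A') (hA : Q' A) (hA'' : Q' A'') :
    psiGen T A hA = psiGen T A' hA' + psiGen T A'' hA'' := by
  obtain ⟨K, L, hsL, hL⟩ := T.cover A hA
  obtain ⟨K'', h1, h2⟩ := ses_kernel_comp hsL hs
  have hK'' : Q K'' := T.ker h1 hL hA''
  rw [psiGen_eq T hA hsL hL, psiGen_eq T hA'' h1 hL, psiGen_eq T hA' h2 hK'']
  abel

/-- the inverse homomorphism -/
noncomputable def psi : KZero.K0sub Q' →+ KZero.K0sub Q :=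
  K0lift (psiGen T) (fun hs hK hL hA => psiGen_ses T hs hK hL hA)

lemma psi_map (x : KZero.K0sub Q) : psi T (SGA6.mapSub (𝟭 C) Q Q' T.le x) = x := by
  refine K0sub_hom_ext ((psi T).comp (SGA6.mapSub (𝟭 C) Q Q' T.le)) (AddMonoidHom.id _) ?_ x
  intro X hX
  rw [AddMonoidHom.comp_apply, mapSub_clP, AddMonoidHom.id_apply, psi, K0lift_clP]
  obtain ⟨K, L, hs, hL⟩ := T.cover X (T.le X hX)
  rw [psiGen_eq T _ hs hL, clP_ses hs (T.ker hs hL (T.le X hX)) hL hX]
  abel

lemma map_psi (y : KZero.K0sub Q') : SGA6.mapSub (𝟭 C) Q Q' T.le (psi T y) = y := by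
  refine K0sub_hom_ext ((SGA6.mapSub (𝟭 C) Q Q' T.le).comp (psi T)) (AddMonoidHom.id _) ?_ y
  intro A hA
  rw [AddMonoidHom.comp_apply, AddMonoidHom.id_apply, psi, K0lift_clP]
  obtain ⟨K, L, hs, hL⟩ := T.cover A hA
  have hK := T.ker hs hL hA
  rw [psiGen_eq T _ hs hL, map_sub, mapSub_clP, mapSub_clP,
    clP_ses hs (T.le K hK) (T.le L hL) hA]
  abel

theorem bijective : Function.Bijective (SGA6.mapSub (𝟭 C) Q Q' T.le) :=
  Function.bijective_iff_has_inverse.mpr ⟨psi T, psi_map T, map_psi T⟩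

end Step

end ResK0

end Groth.Agent.Lib.Helper16
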