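import Groth.Agent.Lib.Helper16.ResK0.OneStep

/-!
# `K0sub` of a countable increasing union (helper16)
-/

set_option autoImplicit false
set_option linter.unusedSectionVars false
universe v u

namespace Groth.Agent.Lib.Helper16

namespace ResK0

open CategoryTheory CategoryTheory.Limits

variable {C : Type u} [Category.{v} C] [Abelian C]

namespace Union

variable (Q : ℕ → ObjectProperty C) (P : ObjectProperty C)
  (hmono : ∀ n X, Q n X → Q (n + 1) X)
  (hbij : ∀ n, Function.Bijective (SGA6.mapSub (𝟭 C) (Q n) (Q (n + 1)) (hmono n)))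

include hmono in
lemma Q_mono {n m : ℕ} (hnm : n ≤ m) {X : C} (h : Q n X) : Q m X := by
  induction m, hnm using Nat.le_induction with
  | base => exact h
  | succ m _ ih => exact hmono m X ih

/-- the inverse of `K0sub (Q 0) → K0sub (Q n)` -/
noncomputable def inv : ∀ n, KZero.K0sub (Q n) →+ KZero.K0sub (Q 0)
  | 0 => AddMonoidHom.id _
  | n + 1 => (inv n).comp (AddEquiv.ofBijective _ (hbij n)).symm.toAddMonoidHom

lemma inv_succ_map (n : ℕ) (z : KZero.K0sub (Q n)) :
    inv Q hmono hbij (n + 1) (SGA6.mapSub (𝟭 C) (Q n) (Q (n + 1)) (hmono n) z) =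
      inv Q hmono hbij n z := by
  change inv Q hmono hbij n ((AddEquiv.ofBijective _ (hbij n)).symm
    ((AddEquiv.ofBijective _ (hbij n)) z)) = _
  rw [AddEquiv.symm_apply_apply]

lemma inv_succ_clP (n : ℕ) (X : C) (h : Q n X) :
    inv Q hmono hbij (n + 1) (clP (Q (n + 1)) X (hmono n X h)) =
      inv Q hmono hbij n (clP (Q n) X h) := by
  rw [← inv_succ_map Q hmono hbij n, mapSub_clP]

lemma inv_mono {n m : ℕ} (hnm : n ≤ m) (X : C) (hn : Q n X) (hm : Q m X) :
    inv Q hmono hbij m (clP (Q m) X hm) = inv Q hmono hbij n (clP (Q n) X hn) := by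
  revert hm
  induction m, hnm using Nat.le_induction with
  | base => intro hm; rfl
  | succ m hm' ih =>
    intro hm
    rw [← ih (Q_mono Q hmono hm' hn)]
    exact inv_succ_clP Q hmono hbij m X _

variable (hQP : ∀ n X, Q n X → P X) (hPQ : ∀ X, P X → ∃ n, Q n X)

lemma map_inv (n : ℕ) (z : KZero.K0sub (Q n)) :
    SGA6.mapSub (𝟭 C) (Q 0) P (hQP 0) (inv Q hmono hbij n z) =
      SGA6.mapSub (𝟭 C) (Q n) P (hQP n) z := by
  induction n with
  | zero => rfl
  | succ n ih =>
    obtain ⟨z', rfl⟩ := (hbij n).2 z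
    rw [inv_succ_map, ih, mapSub_comp]

/-- the inverse on generators -/
noncomputable def phiGen (X : C) (hX : P X) : KZero.K0sub (Q 0) :=
  inv Q hmono hbij (hPQ X hX).choose (clP (Q _) X (hPQ X hX).choose_spec)

lemma phiGen_eq (X : C) (hX : P X) (m : ℕ) (hm : Q m X) :
    phiGen Q P hmono hbij hPQ X hX = inv Q hmono hbij m (clP (Q m) X hm) := by
  unfold phiGen
  rw [← inv_mono Q hmono hbij (le_max_left (hPQ X hX).choose m) X (hPQ X hX).choose_spec
    (Q_mono Q hmono (le_max_left _ _) (hPQ X hX).choose_spec),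
    ← inv_mono Q hmono hbij (le_max_right (hPQ X hX).choose m) X hm
    (Q_mono Q hmono (le_max_left _ _) (hPQ X hX).choose_spec)]

lemma phiGen_ses {K L A : C} (hs : SES K L A) (hK : P K) (hL : P L) (hA : P A) :
    phiGen Q P hmono hbij hPQ L hL =
      phiGen Q P hmono hbij hPQ K hK + phiGen Q P hmono hbij hPQ A hA := by
  obtain ⟨n₁, h₁⟩ := hPQ K hK
  obtain ⟨n₂, h₂⟩ := hPQ L hL
  obtain ⟨n₃, h₃⟩ := hPQ A hA
  have k₁ : Q (max n₁ (max n₂ n₃)) K := Q_mono Q hmono (le_max_left _ _) h₁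
  have k₂ : Q (max n₁ (max n₂ n₃)) L :=
    Q_mono Q hmono ((le_max_left _ _).trans (le_max_right _ _)) h₂
  have k₃ : Q (max n₁ (max n₂ n₃)) A :=
    Q_mono Q hmono ((le_max_right _ _).trans (le_max_right _ _)) h₃
  rw [phiGen_eq Q P hmono hbij hPQ K hK _ k₁, phiGen_eq Q P hmono hbij hPQ L hL _ k₂,
    phiGen_eq Q P hmono hbij hPQ A hA _ k₃, clP_ses hs k₁ k₂ k₃, map_add]

/-- the inverse homomorphism -/
noncomputable def phi : KZero.K0sub P →+ KZero.K0sub (Q 0) :=
  K0lift (phiGen Q P hmono hbij hPQ) (fun hs hK hL hA => phiGen_ses Q P hmono hbij hPQ hs hK hL hA)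

include hmono hbij hPQ hQP in
theorem bijective : Function.Bijective (SGA6.mapSub (𝟭 C) (Q 0) P (hQP 0)) := by
  refine Function.bijective_iff_has_inverse.mpr ⟨phi Q P hmono hbij hPQ, ?_, ?_⟩
  · intro x
    refine K0sub_hom_ext ((phi Q P hmono hbij hPQ).comp (SGA6.mapSub (𝟭 C) (Q 0) P (hQP 0)))
      (AddMonoidHom.id _) ?_ x
    intro X hX
    rw [AddMonoidHom.comp_apply, mapSub_clP, AddMonoidHom.id_apply, phi, K0lift_clP,
      phiGen_eq Q P hmono hbij hPQ X _ 0 hX]
    rfl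
  · intro y
    refine K0sub_hom_ext ((SGA6.mapSub (𝟭 C) (Q 0) P (hQP 0)).comp (phi Q P hmono hbij hPQ))
      (AddMonoidHom.id _) ?_ y
    intro A hA
    obtain ⟨n, hn⟩ := hPQ A hA
    rw [AddMonoidHom.comp_apply, AddMonoidHom.id_apply, phi, K0lift_clP,
      phiGen_eq Q P hmono hbij hPQ A _ n hn, map_inv Q P hmono hbij hQP, mapSub_clP]

end Union

end ResK0

end Groth.Agent.Lib.Helper16
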