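import Groth.Agent.Lib.Helper16.ResK0.Tower

/-!
# Resolutions by objects of `P₀` and the level of an object of `P₁` (helper16)
-/

set_option autoImplicit false
set_option linter.style.haveILetI false
universe v u

namespace Groth.Agent.Lib.Helper16

namespace ResK0

open CategoryTheory CategoryTheory.Limits

variable {C : Type u} [Category.{v} C] [Abelian C]

lemma SES.of_iso {K L A A' : C} (h : SES K L A) (e : A ≅ A') : SES K L A' := by
  obtain ⟨i, p, w, hS⟩ := h
  haveI := hS.mono_f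
  haveI := hS.epi_g
  refine ses_of_lift i (p ≫ e.hom) (by rw [← Category.assoc, w, zero_comp]) ?_
  intro T k hk
  have hk' : k ≫ p = 0 := by
    rw [← cancel_mono e.hom, Category.assoc, hk, zero_comp]
  exact ⟨hS.exact.lift k hk', hS.exact.lift_f _ _⟩

lemma ses_kernel_comp_mono {X Y Z : C} (f : X ⟶ Y) [Epi f] (g : Y ⟶ Z) [Mono g] :
    SES (kernel (f ≫ g)) X Y := by
  have w : kernel.ι (f ≫ g) ≫ f = 0 := by
    rw [← cancel_mono g, Category.assoc, kernel.condition, zero_comp]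
  refine ses_of_lift (kernel.ι (f ≫ g)) f w ?_
  intro T k hk
  have hk' : k ≫ (f ≫ g) = 0 := by rw [← Category.assoc, hk, zero_comp]
  exact ⟨kernel.lift _ k hk', kernel.lift_ι _ _ _⟩

lemma exact_of_eq {X₁ X₂ X₃ : C} {f f' : X₁ ⟶ X₂} {g g' : X₂ ⟶ X₃} (w : f ≫ g = 0)
    (w' : f' ≫ g' = 0) (hf : f = f') (hg : g = g') (h : (ShortComplex.mk f' g' w').Exact) :
    (ShortComplex.mk f g w).Exact := by
  subst hf hg
  exact h

section Cycles

variable (L : ChainComplex C ℕ)

lemma epi_toCycles (i : ℕ) (h : L.ExactAt i) : Epi (L.toCycles (i + 1) i) :=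
  Preadditive.epi_of_isZero_cokernel' _ (L.homologyIsCokernel (i + 1) i (by simp))
    ((L.exactAt_iff_isZero_homology i).1 h)

lemma ses_cycles (i : ℕ) (h : L.ExactAt i) :
    SES (L.cycles (i + 1)) (L.X (i + 1)) (L.cycles i) := by
  haveI := epi_toCycles L i h
  have w : L.iCycles (i + 1) ≫ L.toCycles (i + 1) i = 0 := by
    rw [← cancel_mono (L.iCycles i), Category.assoc, L.toCycles_i, zero_comp, L.iCycles_d]
  refine ses_of_lift (L.iCycles (i + 1)) (L.toCycles (i + 1) i) w ?_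
  intro T k hk
  have hk' : k ≫ L.d (i + 1) i = 0 := by
    rw [← L.toCycles_i, ← Category.assoc, hk, zero_comp]
  exact ⟨L.liftCycles k i (by simp) hk', L.liftCycles_i _ _ _ _⟩

lemma ses_bottom : SES (kernel (L.pOpcycles 0)) (L.X 0) (L.opcycles 0) :=
  ses_kernel _

lemma ses_one : SES (L.cycles 1) (L.X 1) (kernel (L.pOpcycles 0)) := by
  have hex : (ShortComplex.mk (L.d 1 0) (L.pOpcycles 0) (L.d_pOpcycles 1 0)).Exact :=
    ShortComplex.exact_of_g_is_cokernel _ (L.opcyclesIsCokernel 1 0 (by simp))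
  haveI : Epi (kernel.lift (L.pOpcycles 0) (L.d 1 0) (L.d_pOpcycles 1 0)) :=
    (ShortComplex.exact_iff_epi_kernel_lift _).1 hex
  have w : L.iCycles 1 ≫ kernel.lift (L.pOpcycles 0) (L.d 1 0) (L.d_pOpcycles 1 0) = 0 := by
    rw [← cancel_mono (kernel.ι _), Category.assoc, kernel.lift_ι, zero_comp, L.iCycles_d]
  refine ses_of_lift (L.iCycles 1) _ w ?_
  intro T k hk
  have hk' : k ≫ L.d 1 0 = 0 := by
    rw [← kernel.lift_ι (L.pOpcycles 0) (L.d 1 0) (L.d_pOpcycles 1 0), ← Category.assoc, hk,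
      zero_comp]
  exact ⟨L.liftCycles k 0 (by simp) hk', L.liftCycles_i _ _ _ _⟩

variable {P₀ P₁ : ObjectProperty C} (H : Hyp P₀ P₁)

include H in
/-- the level of an object admitting a resolution whose `(d+1)`-st cycles lie in `P₀` -/
lemma exists_level_of_resolution [P₁.IsClosedUnderIsomorphisms] {A : C} (hA : P₁ A)
    (hX : ∀ i, P₀ (L.X i)) (hex : ∀ i, 1 ≤ i → L.ExactAt i) (e : L.homology 0 ≅ A)
    (d : ℕ) (hd : P₀ (L.cycles (d + 1))) : ∃ n, U P₀ P₁ n A := by
  have e' : A ≅ L.opcycles 0 := e.symm ≪≫ L.isoHomologyι₀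
  have hO : P₁ (L.opcycles 0) := P₁.prop_of_iso e' hA
  have hB : P₁ (kernel (L.pOpcycles 0)) := H.ker₁ (ses_bottom L) (H.le _ (hX 0)) hO
  have hZ : ∀ i, P₁ (L.cycles (i + 1)) := by
    intro i
    induction i with
    | zero => exact H.ker₁ (ses_one L) (H.le _ (hX 1)) hB
    | succ i ih => exact H.ker₁ (ses_cycles L (i + 1) (hex _ (by omega))) (H.le _ (hX _)) ih
  have step : ∀ i n, U P₀ P₁ n (L.cycles (i + 1 + 1)) → U P₀ P₁ (n + 1) (L.cycles (i + 1)) :=
    fun i n h => U_succ_of_exists H (good H n) (hZ i) (ses_cycles L (i + 1) (hex _ (by omega)))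
      (hX _) h
  have down : ∀ d n, U P₀ P₁ n (L.cycles (d + 1)) → ∃ m, U P₀ P₁ m (L.cycles 1) := by
    intro d
    induction d with
    | zero => exact fun n h => ⟨n, h⟩
    | succ d ih => exact fun n h => ih (n + 1) (step d n h)
  obtain ⟨m, hm⟩ := down d 0 hd
  have h1 : U P₀ P₁ (m + 1) (kernel (L.pOpcycles 0)) :=
    U_succ_of_exists H (good H m) hB (ses_one L) (hX 1) hm
  exact ⟨m + 1 + 1, U_succ_of_exists H (good H (m + 1)) hA ((ses_bottom L).of_iso e'.symm)
    (hX 0) h1⟩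

end Cycles

section Build

variable {P₀ P₁ : ObjectProperty C} (H : Hyp P₀ P₁)

include H in
lemma exists_cov (X : C) : ∃ (L : C) (p : L ⟶ X), Epi p ∧ (P₁ X → P₀ L) := by
  by_cases h : P₁ X
  · obtain ⟨K, L, ⟨i, p, w, hS⟩, hL⟩ := H.cover X h
    exact ⟨L, p, hS.epi_g, fun _ => hL⟩
  · exact ⟨X, 𝟙 X, inferInstance, fun h' => absurd h' h⟩

/-- a chosen cover (by an object of `P₀` when the target is in `P₁`) -/
noncomputable def covObj (X : C) : C := (exists_cov H X).choose

/-- the chosen epimorphism -/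
noncomputable def covπ (X : C) : covObj H X ⟶ X := (exists_cov H X).choose_spec.choose

instance (X : C) : Epi (covπ H X) := (exists_cov H X).choose_spec.choose_spec.1

lemma covObj_mem {X : C} (h : P₁ X) : P₀ (covObj H X) :=
  (exists_cov H X).choose_spec.choose_spec.2 h

/-- the next differential -/
noncomputable def dd {X Y : C} (f : X ⟶ Y) : covObj H (kernel f) ⟶ X :=
  covπ H (kernel f) ≫ kernel.ι f

lemma dd_comp {X Y : C} (f : X ⟶ Y) : dd H f ≫ f = 0 := by
  simp [dd]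

lemma exact_dd {X Y : C} (f : X ⟶ Y) : (ShortComplex.mk (dd H f) f (dd_comp H f)).Exact := by
  let α : ShortComplex.mk (dd H f) f (dd_comp H f) ⟶ ShortComplex.mk (kernel.ι f) f (by simp) :=
    { τ₁ := covπ H _
      τ₂ := 𝟙 _
      τ₃ := 𝟙 _
      comm₁₂ := by simp [dd]
      comm₂₃ := by simp }
  have : Epi α.τ₁ := by dsimp [α]; infer_instance
  have : IsIso α.τ₂ := by dsimp [α]; infer_instance
  have : Mono α.τ₃ := by dsimp [α]; infer_instance
  rw [ShortComplex.exact_iff_of_epi_of_isIso_of_mono α]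
  apply ShortComplex.exact_of_f_is_kernel
  apply kernelIsKernel

lemma ker_dd_mem {X Y : C} (f : X ⟶ Y) (hK : P₁ (kernel f)) : P₁ (kernel (dd H f)) :=
  H.ker₁ (ses_kernel_comp_mono (covπ H (kernel f)) (kernel.ι f)) (H.le _ (covObj_mem H hK)) hK

/-- a segment `X₁ ⟶ X₀` of the resolution under construction -/
structure Seg (C : Type u) [Category.{v} C] where
  X₁ : C
  X₀ : C
  d : X₁ ⟶ X₀

/-- the segments of the resolution -/
noncomputable def seg (A : C) : ℕ → Seg C
  | 0 => ⟨covObj H (kernel (covπ H A)), covObj H A, dd H (covπ H A)⟩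
  | n + 1 => ⟨covObj H (kernel (seg A n).d), (seg A n).X₁, dd H (seg A n).d⟩

/-- the resolution -/
noncomputable def res (A : C) : ChainComplex C ℕ :=
  ChainComplex.of (fun n => (seg H A n).X₀) (fun n => (seg H A n).d) (fun n => dd_comp H _)

lemma seg_inv (A : C) (hA : P₁ A) :
    ∀ n, P₀ (seg H A n).X₀ ∧ P₀ (seg H A n).X₁ ∧ P₁ (kernel (seg H A n).d)
  | 0 => by
    have hK : P₁ (kernel (covπ H A)) :=
      H.ker₁ (ses_kernel (covπ H A)) (H.le _ (covObj_mem H hA)) hA
    exact ⟨covObj_mem H hA, covObj_mem H hK, ker_dd_mem H _ hK⟩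
  | n + 1 => by
    obtain ⟨_, h1, h2⟩ := seg_inv A hA n
    exact ⟨h1, covObj_mem H h2, ker_dd_mem H _ h2⟩

lemma res_d_succ (A : C) (n : ℕ) :
    (res H A).d (n + 1 + 1) (n + 1) = dd H (seg H A n).d :=
  ChainComplex.of_d (fun n => (seg H A n).X₀) (fun n => (seg H A n).d) (n + 1)

lemma res_d (A : C) (n : ℕ) : (res H A).d (n + 1) n = (seg H A n).d :=
  ChainComplex.of_d (fun n => (seg H A n).X₀) (fun n => (seg H A n).d) n

lemma res_exactAt (A : C) (n : ℕ) : (res H A).ExactAt (n + 1) := by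
  rw [HomologicalComplex.exactAt_iff' _ (n + 1 + 1) (n + 1) n (by simp) (by simp)]
  exact exact_of_eq _ _ (res_d_succ H A n) (res_d H A n) (exact_dd H (seg H A n).d)

lemma res_homology (A : C) : Nonempty ((res H A).homology 0 ≅ A) := by
  have h0 : (res H A).d 1 0 = dd H (covπ H A) := ChainComplex.of_d (fun n => (seg H A n).X₀) (fun n => (seg H A n).d) 0
  have w : (res H A).d 1 0 ≫ covπ H A = 0 := by rw [h0]; exact dd_comp H _
  have hex : (ShortComplex.mk ((res H A).d 1 0) (covπ H A) w).Exact :=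
    exact_of_eq _ _ h0 rfl (exact_dd H (covπ H A))
  haveI : Epi (ShortComplex.mk ((res H A).d 1 0) (covπ H A) w).g :=
    inferInstanceAs (Epi (covπ H A))
  exact ⟨(res H A).isoHomologyι₀ ≪≫
    IsColimit.coconePointUniqueUpToIso ((res H A).opcyclesIsCokernel 1 0 (by simp))
      hex.gIsCokernel⟩

include H in
theorem exists_level [P₁.IsClosedUnderIsomorphisms]
    (h3 : ∀ A : C, P₁ A → ∃ d : ℕ, ∀ L : ChainComplex C ℕ, (∀ i, P₀ (L.X i)) →
      (∀ i, 1 ≤ i → L.ExactAt i) → Nonempty (L.homology 0 ≅ A) → P₀ (L.cycles (d + 1)))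
    (A : C) (hA : P₁ A) : ∃ n, U P₀ P₁ n A := by
  obtain ⟨d, hd⟩ := h3 A hA
  have hX : ∀ i, P₀ ((res H A).X i) := fun i => (seg_inv H A hA i).1
  have hex : ∀ i, 1 ≤ i → (res H A).ExactAt i := by
    intro i hi
    obtain ⟨j, rfl⟩ := Nat.exists_eq_add_of_le' hi
    exact res_exactAt H A j
  obtain ⟨e⟩ := res_homology H A
  exact exists_level_of_resolution (res H A) H hA hX hex e d (hd _ hX hex ⟨e⟩)

end Build

end ResK0

end Groth.Agent.Lib.Helper16
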