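import Mathlib

/-!
# Short exact sequences as a predicate, pullback and kernel sequences (helper16)
-/

set_option autoImplicit false
universe v u

namespace Groth.Agent.Lib.Helper16

namespace ResK0

open CategoryTheory CategoryTheory.Limits

variable {C : Type u} [Category.{v} C] [Abelian C]

/-- there is a short exact sequence `0 → K → L → A → 0` -/
def SES (K L A : C) : Prop :=
  ∃ (i : K ⟶ L) (p : L ⟶ A) (w : i ≫ p = 0), (ShortComplex.mk i p w).ShortExact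

lemma SES.of_shortExact {S : ShortComplex C} (hS : S.ShortExact) : SES S.X₁ S.X₂ S.X₃ :=
  ⟨S.f, S.g, S.zero, hS⟩

/-- criterion: mono, epi, and universal property of the kernel -/
lemma ses_of_lift {K L A : C} (i : K ⟶ L) (p : L ⟶ A) (w : i ≫ p = 0) [Mono i] [Epi p]
    (h : ∀ {T : C} (k : T ⟶ L), k ≫ p = 0 → ∃ l : T ⟶ K, l ≫ i = k) :
    SES K L A := by
  refine ⟨i, p, w, ShortComplex.ShortExact.mk' ?_ ‹_› ‹_›⟩
  apply ShortComplex.exact_of_f_is_kernel
  exact KernelFork.IsLimit.ofι' i w (fun k hk => ⟨(h k hk).choose, (h k hk).choose_spec⟩)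

lemma ses_kernel {L A : C} (p : L ⟶ A) [Epi p] : SES (kernel p) L A :=
  ses_of_lift (kernel.ι p) p (kernel.condition p)
    (fun k hk => ⟨kernel.lift p k hk, kernel.lift_ι _ _ _⟩)

/-- pullback of a short exact sequence along a map into the quotient -/
lemma ses_pullback {K L A W : C} (i : K ⟶ L) (p : L ⟶ A) (w : i ≫ p = 0)
    (hS : (ShortComplex.mk i p w).ShortExact) (g : W ⟶ A) :
    SES K (pullback p g) W := by
  haveI : Mono i := hS.mono_f
  haveI : Epi p := hS.epi_g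
  have hw : i ≫ p = (0 : K ⟶ W) ≫ g := by rw [w, zero_comp]
  haveI : Mono (pullback.lift i (0 : K ⟶ W) hw) :=
    mono_of_mono_fac (pullback.lift_fst _ _ hw)
  refine ses_of_lift (pullback.lift i 0 hw) (pullback.snd p g) (pullback.lift_snd _ _ _) ?_
  intro T k hk
  have h1 : (k ≫ pullback.fst p g) ≫ p = 0 := by
    rw [Category.assoc, pullback.condition, ← Category.assoc, hk, zero_comp]
  refine ⟨hS.exact.lift (k ≫ pullback.fst p g) h1, ?_⟩
  apply pullback.hom_ext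
  · rw [Category.assoc, pullback.lift_fst]
    exact hS.exact.lift_f _ _
  · rw [Category.assoc, pullback.lift_snd, comp_zero, hk]

/-- two covers of the same object are dominated by their fibre product -/
lemma ses_pullback_pair {K₁ L₁ K₂ L₂ A : C} (h₁ : SES K₁ L₁ A) (h₂ : SES K₂ L₂ A) :
    ∃ M : C, SES K₁ M L₂ ∧ SES K₂ M L₁ := by
  obtain ⟨i₁, p₁, w₁, hS₁⟩ := h₁
  obtain ⟨i₂, p₂, w₂, hS₂⟩ := h₂
  refine ⟨pullback p₁ p₂, ses_pullback i₁ p₁ w₁ hS₁ p₂, ?_⟩
  -- symmetric statement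
  haveI : Mono i₂ := hS₂.mono_f
  haveI : Epi p₂ := hS₂.epi_g
  haveI : Epi p₁ := hS₁.epi_g
  have hw : (0 : K₂ ⟶ L₁) ≫ p₁ = i₂ ≫ p₂ := by rw [w₂, zero_comp]
  haveI : Mono (pullback.lift (0 : K₂ ⟶ L₁) i₂ hw) :=
    mono_of_mono_fac (pullback.lift_snd _ _ hw)
  refine ses_of_lift (pullback.lift 0 i₂ hw) (pullback.fst p₁ p₂) (pullback.lift_fst _ _ _) ?_
  intro T k hk
  have h1 : (k ≫ pullback.snd p₁ p₂) ≫ p₂ = 0 := by
    rw [Category.assoc, ← pullback.condition, ← Category.assoc, hk, zero_comp]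
  refine ⟨hS₂.exact.lift (k ≫ pullback.snd p₁ p₂) h1, ?_⟩
  apply pullback.hom_ext
  · rw [Category.assoc, pullback.lift_fst, comp_zero, hk]
  · rw [Category.assoc, pullback.lift_snd]
    exact hS₂.exact.lift_f _ _

/-- kernels of a composite of epimorphisms -/
lemma ses_kernel_comp {K L A A' A'' : C} (h₁ : SES K L A) (h₂ : SES A' A A'') :
    ∃ K'' : C, SES K'' L A'' ∧ SES K K'' A' := by
  obtain ⟨i₁, p₁, w₁, hS₁⟩ := h₁
  obtain ⟨i₂, p₂, w₂, hS₂⟩ := h₂
  haveI : Mono i₂ := hS₂.mono_f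
  haveI : Epi p₂ := hS₂.epi_g
  haveI : Epi p₁ := hS₁.epi_g
  refine ⟨pullback p₁ i₂, ?_, ses_pullback i₁ p₁ w₁ hS₁ i₂⟩
  have hz : pullback.fst p₁ i₂ ≫ (p₁ ≫ p₂) = 0 := by
    rw [← Category.assoc, pullback.condition, Category.assoc, w₂, comp_zero]
  refine ses_of_lift (pullback.fst p₁ i₂) (p₁ ≫ p₂) hz ?_
  intro T k hk
  have h1 : (k ≫ p₁) ≫ p₂ = 0 := by rw [Category.assoc, hk]
  refine ⟨pullback.lift k (hS₂.exact.lift (k ≫ p₁) h1) (hS₂.exact.lift_f _ _).symm, ?_⟩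
  exact pullback.lift_fst _ _ _

end ResK0

end Groth.Agent.Lib.Helper16
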